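import Mathlib
import Cfsg.Agent.Lib.Helper5.Ord360.Sylow3

/-!
# A simple group of order 1092 whose maximal subgroups have orders 78, 12, 14

(author: helper5)  Basic tools: coatoms, Burnside's transfer in a simple group, Sylow normalizers.
-/

set_option autoImplicit false
set_option linter.unusedSectionVars false
set_option linter.unusedVariables false

namespace Cfsg.Agent.Lib.Helper5.L13

open Subgroup

section general

variable {G : Type*} [Group G] [Finite G]

/-- Burnside: in a simple group a proper nontrivial Sylow subgroup is not central in its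
normalizer -/
theorem not_normalizer_le_centralizer [IsSimpleGroup G] {p : ℕ} [Fact p.Prime] (P : Sylow p G)
    (h1 : Nat.card (P : Subgroup G) ≠ 1) (h2 : Nat.card (P : Subgroup G) ≠ Nat.card G) :
    ¬ (normalizer ((P : Subgroup G) : Set G) ≤ centralizer ((P : Subgroup G) : Set G)) := by
  intro hP
  have hc := (MonoidHom.ker_transferSylow_isComplement' P hP).card_mul_card
  rcases (MonoidHom.normal_ker (MonoidHom.transferSylow P hP)).eq_bot_or_eq_top with h | h
  · rw [h, Subgroup.card_bot, one_mul] at hc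
    exact h2 hc
  · rw [h, Subgroup.card_top] at hc
    have hpos : 0 < Nat.card G := Nat.card_pos
    exact h1 (Nat.eq_of_mul_eq_mul_left hpos (hc.trans (mul_one _).symm))

theorem exists_sylow_eq {p : ℕ} [Fact p.Prime] (k m : ℕ) (hG : Nat.card G = p ^ k * m)
    (hm : ¬ p ∣ m) (H : Subgroup G) (hH : Nat.card H = p ^ k) :
    ∃ P : Sylow p G, (P : Subgroup G) = H := by
  obtain ⟨P, hP⟩ := (IsPGroup.of_card hH).exists_le_sylow
  refine ⟨P, (Subgroup.eq_of_le_of_card_ge hP ?_).symm⟩
  rw [Ord360.sylow_card_eq P k m hG hm, hH]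

theorem sylow_index_mod {p : ℕ} [Fact p.Prime] (P : Sylow p G) :
    (normalizer ((P : Subgroup G) : Set G)).index % p = 1 % p := by
  have h := card_sylow_modEq_one p G
  rw [P.card_eq_index_normalizer] at h
  exact h

/-- an element of the normalizer whose order is prime to the order of the automorphism group
centralizes -/
theorem mem_centralizer_of_coprime (H : Subgroup G) (g : G) (hg : g ∈ normalizer (H : Set G))
    (n : ℕ) (hgn : g ^ n = 1) (hcop : n.Coprime (Nat.card (MulAut H))) :
    g ∈ centralizer (H : Set G) := by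
  set σ : MulAut H := H.normalizerMonoidHom ⟨g, hg⟩ with hσ
  have h1 : σ ^ n = 1 := by
    rw [hσ, ← map_pow]
    have : (⟨g, hg⟩ : normalizer (H : Set G)) ^ n = 1 := Subtype.ext (by simpa using hgn)
    rw [this, map_one]
  have h2 : orderOf σ ∣ n := orderOf_dvd_of_pow_eq_one h1
  have h3 : orderOf σ ∣ Nat.card (MulAut H) := _root_.orderOf_dvd_natCard σ
  have h4 : orderOf σ = 1 := Nat.eq_one_of_dvd_coprimes hcop h2 h3
  have h5 : σ = 1 := orderOf_eq_one_iff.1 h4
  have h6 : (⟨g, hg⟩ : normalizer (H : Set G)) ∈ H.normalizerMonoidHom.ker := h5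
  rw [normalizerMonoidHom_ker, mem_subgroupOf] at h6
  exact h6

/-- the index of the centralizer in the normalizer divides the order of the automorphism group -/
theorem card_normalizer_dvd (H : Subgroup G) :
    Nat.card (normalizer (H : Set G)) ∣
      Nat.card (centralizer (H : Set G)) * Nat.card (MulAut H) := by
  have h1 := H.normalizerMonoidHom.ker.card_mul_index
  rw [index_ker, normalizerMonoidHom_ker,
    Nat.card_congr (subgroupOfEquivOfLe (centralizer_le_normalizer (H : Set G))).toEquiv] at h1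
  rw [← h1]
  exact Nat.mul_dvd_mul_left _ (Subgroup.card_subgroup_dvd_card _)

/-- commutators of elements of the normalizer of a cyclic subgroup centralize it -/
theorem commutator_mem_centralizer (H : Subgroup G) [IsCyclic H] (a b : G)
    (ha : a ∈ normalizer (H : Set G)) (hb : b ∈ normalizer (H : Set G)) :
    a * b * a⁻¹ * b⁻¹ ∈ centralizer (H : Set G) := by
  have hcomm : ∀ σ τ : MulAut H, σ * τ = τ * σ := by
    intro σ τ
    apply (IsCyclic.mulAutMulEquiv H).injective
    rw [map_mul, map_mul, mul_comm]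
  have hmem : (⟨a, ha⟩ * ⟨b, hb⟩ * ⟨a, ha⟩⁻¹ * ⟨b, hb⟩⁻¹ : normalizer (H : Set G)) ∈
      H.normalizerMonoidHom.ker := by
    rw [MonoidHom.mem_ker, map_mul, map_mul, map_mul, map_inv, map_inv,
      hcomm (H.normalizerMonoidHom ⟨a, ha⟩)]
    simp
  rw [normalizerMonoidHom_ker, mem_subgroupOf] at hmem
  exact hmem

end general

section arithmetic

theorem mem_of_dvd {n : ℕ} (h : n ∣ 78 ∨ n ∣ 12 ∨ n ∣ 14) :
    n = 1 ∨ n = 2 ∨ n = 3 ∨ n = 4 ∨ n = 6 ∨ n = 7 ∨ n = 12 ∨ n = 13 ∨ n = 14 ∨ n = 26 ∨
      n = 39 ∨ n = 78 := by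
  rcases h with h | h | h
  · have := Nat.le_of_dvd (by norm_num) h
    interval_cases n <;> omega
  · have := Nat.le_of_dvd (by norm_num) h
    interval_cases n <;> omega
  · have := Nat.le_of_dvd (by norm_num) h
    interval_cases n <;> omega

end arithmetic

section coatoms

variable {G : Type*} [Group G] [Finite G]
  (hco : ∀ M : Subgroup G, IsCoatom M → Nat.card M = 78 ∨ Nat.card M = 12 ∨ Nat.card M = 14)

include hco

theorem exists_coatom_ge (X : Subgroup G) (hX : X ≠ ⊤) : ∃ M : Subgroup G, IsCoatom M ∧ X ≤ M :=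
  (eq_top_or_exists_le_coatom X).resolve_left hX

theorem card_dvd_of_ne_top (X : Subgroup G) (hX : X ≠ ⊤) :
    Nat.card X ∣ 78 ∨ Nat.card X ∣ 12 ∨ Nat.card X ∣ 14 := by
  obtain ⟨M, hM, hXM⟩ := exists_coatom_ge hco X hX
  have hd := Subgroup.card_dvd_of_le hXM
  rcases hco M hM with h | h | h <;> rw [h] at hd
  exacts [Or.inl hd, Or.inr (Or.inl hd), Or.inr (Or.inr hd)]

theorem isCoatom_of_card (hG : Nat.card G = 1092) (X : Subgroup G)
    (hX : Nat.card X = 78 ∨ Nat.card X = 12 ∨ Nat.card X = 14) : IsCoatom X := by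
  have hXtop : X ≠ ⊤ := by
    rintro rfl
    rw [Subgroup.card_top, hG] at hX
    omega
  obtain ⟨M, hM, hXM⟩ := exists_coatom_ge hco X hXtop
  have hd := Subgroup.card_dvd_of_le hXM
  have hc : Nat.card M ≤ Nat.card X := by
    rcases hco M hM with h | h | h <;> rcases hX with h' | h' | h' <;> rw [h, h'] at hd <;> omega
  rw [Subgroup.eq_of_le_of_card_ge hXM hc]
  exact hM

/-- the reduction: it is enough to find a subgroup of order 78, 12 or 14 in the normalizer -/
theorem isCoatom_normalizer_of_le (hG : Nat.card G = 1092) (H X : Subgroup G) (hH : ¬ H.Normal)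
    (hX : Nat.card X = 78 ∨ Nat.card X = 12 ∨ Nat.card X = 14)
    (hXN : X ≤ normalizer (H : Set G)) : IsCoatom (normalizer (H : Set G)) := by
  have hXc := isCoatom_of_card hco hG X hX
  have hN : normalizer (H : Set G) ≠ ⊤ := fun h => hH (normalizer_eq_top_iff.1 h)
  rcases eq_or_lt_of_le hXN with h | h
  · rw [← h]; exact hXc
  · exact absurd (hXc.2 _ h) hN

end coatoms

end Cfsg.Agent.Lib.Helper5.L13
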