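import Cfsg.Agent.Lib.Helper5.L13.Invol

/-!
# A simple group of order 1092 whose maximal subgroups have orders 78, 12, 14:
every subgroup that is not normal has a maximal normalizer

(author: helper5)
-/

set_option autoImplicit false
set_option linter.unusedSectionVars false
set_option linter.unusedVariables false

namespace Cfsg.Agent.Lib.Helper5.L13

open Subgroup

section final

variable {G : Type*} [Group G] [Finite G] [IsSimpleGroup G]

theorem centralizer_13 (hco : CoatomOrders G) (hG : Nat.card G = 1092) (P : Subgroup G)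
    (hP : Nat.card P = 13) : centralizer (P : Set G) = P := by
  haveI : Fact (Nat.Prime 13) := ⟨by norm_num⟩
  haveI : Fact (Nat.Prime 2) := ⟨by norm_num⟩
  haveI : Fact (Nat.Prime 3) := ⟨by norm_num⟩
  have hab := comm_of_card_prime P hP
  have hPC : P ≤ centralizer (P : Set G) :=
    fun a ha => mem_centralizer_iff.2 fun b hb => hab b hb a ha
  have hN := card_normalizer_13 hco hG P hP
  have hd : Nat.card (centralizer (P : Set G)) ∣ 78 :=
    hN ▸ Subgroup.card_dvd_of_le (centralizer_le_normalizer _)
  have h13 : 13 ∣ Nat.card (centralizer (P : Set G)) := hP ▸ Subgroup.card_dvd_of_le hPC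
  have hn2 : ¬ 2 ∣ Nat.card (centralizer (P : Set G)) := by
    intro h2
    obtain ⟨t, ht⟩ := exists_prime_orderOf_dvd_card' 2 h2
    have hPC2 := le_centralizer_zpowers P (t : G) t.2
    have hc2 := card_centralizer_two hco hG (zpowers (t : G))
      (by rw [Nat.card_zpowers, Subgroup.orderOf_coe, ht])
    have := Subgroup.card_dvd_of_le hPC2
    rw [hP, hc2] at this
    omega
  have hn3 : ¬ 3 ∣ Nat.card (centralizer (P : Set G)) := by
    intro h3
    obtain ⟨x, hx⟩ := exists_prime_orderOf_dvd_card' 3 h3
    have hPC3 := le_centralizer_zpowers P (x : G) x.2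
    have hc3 := card_normalizer_3 hco hG (zpowers (x : G))
      (by rw [Nat.card_zpowers, Subgroup.orderOf_coe, hx])
    have := Subgroup.card_dvd_of_le (hPC3.trans (centralizer_le_normalizer _))
    rw [hP, hc3] at this
    omega
  have hc : Nat.card (centralizer (P : Set G)) = 13 := by
    have hle := Nat.le_of_dvd (by norm_num) hd
    have hpos : 0 < Nat.card (centralizer (P : Set G)) := Nat.card_pos
    generalize Nat.card (centralizer (P : Set G)) = c at *
    interval_cases c <;> omega
  exact (Subgroup.eq_of_le_of_card_ge hPC (by rw [hc, hP])).symm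

theorem exists_of_card_26 (hco : CoatomOrders G) (hG : Nat.card G = 1092) (H : Subgroup G)
    (hH : Nat.card H = 26) :
    ∃ X : Subgroup G, Nat.card X = 78 ∧ X ≤ normalizer (H : Set G) := by
  haveI : Fact (Nat.Prime 13) := ⟨by norm_num⟩
  obtain ⟨g, hg⟩ := exists_prime_orderOf_dvd_card' 13
    (by rw [hH]; norm_num : 13 ∣ Nat.card H)
  obtain ⟨P, hPdef⟩ : ∃ P : Subgroup G, P = zpowers (g : G) := ⟨_, rfl⟩
  have hP : Nat.card P = 13 := by rw [hPdef, Nat.card_zpowers, Subgroup.orderOf_coe, hg]
  have hPH : P ≤ H := hPdef ▸ zpowers_le.2 g.2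
  have hHN : H ≤ normalizer (P : Set G) :=
    le_normalizer_of_index_two P H hPH (by rw [hH, hP])
  refine ⟨normalizer (P : Set G), card_normalizer_13 hco hG P hP, ?_⟩
  haveI : IsCyclic P := isCyclic_of_prime_card hP
  apply le_normalizer_of_forall
  intro b hb x hx
  have hc := commutator_mem_centralizer P b x hb (hHN hx)
  rw [centralizer_13 hco hG P hP] at hc
  have : b * x * b⁻¹ = (b * x * b⁻¹ * x⁻¹) * x := by group
  rw [this]
  exact H.mul_mem (hPH hc) hx

/-- in a simple group of order 1092 whose maximal subgroups have orders 78, 12 or 14, the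
normalizer of every subgroup that is not normal is maximal -/
theorem main (hco : CoatomOrders G) (hG : Nat.card G = 1092) (H : Subgroup G)
    (hH : ¬ H.Normal) : IsCoatom (normalizer (H : Set G)) := by
  have hHtop : H ≠ ⊤ := by rintro rfl; exact hH inferInstance
  have hHbot : Nat.card H ≠ 1 := by
    intro h
    rw [Subgroup.card_eq_one] at h
    subst h
    exact hH inferInstance
  suffices ∃ X : Subgroup G, (Nat.card X = 78 ∨ Nat.card X = 12 ∨ Nat.card X = 14) ∧
      X ≤ normalizer (H : Set G) by
    obtain ⟨X, hX, hXN⟩ := this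
    exact isCoatom_normalizer_of_le hco hG H X hH hX hXN
  rcases mem_of_dvd (card_dvd_of_ne_top hco H hHtop) with
    h | h | h | h | h | h | h | h | h | h | h | h
  · exact absurd h hHbot
  · exact ⟨centralizer (H : Set G), Or.inr (Or.inl (card_centralizer_two hco hG H h)),
      centralizer_le_normalizer _⟩
  · exact ⟨normalizer (H : Set G), Or.inr (Or.inl (card_normalizer_3 hco hG H h)), le_rfl⟩
  · exact ⟨normalizer (H : Set G), Or.inr (Or.inl (card_normalizer_4 hco hG H h)), le_rfl⟩
  · haveI : Fact (Nat.Prime 3) := ⟨by norm_num⟩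
    obtain ⟨x, hx⟩ := exists_prime_orderOf_dvd_card' 3 (by rw [h]; norm_num : 3 ∣ Nat.card H)
    have hQ : Nat.card (zpowers (x : G)) = 3 := by
      rw [Nat.card_zpowers, Subgroup.orderOf_coe, hx]
    have hQH : zpowers (x : G) ≤ H := zpowers_le.2 x.2
    have hHD := le_normalizer_of_index_two _ H hQH (by rw [h, hQ])
    have hD := card_normalizer_3 hco hG _ hQ
    exact ⟨normalizer ((zpowers (x : G) : Subgroup G) : Set G), Or.inr (Or.inl hD),
      le_normalizer_of_index_two H _ hHD (by rw [hD, h])⟩
  · obtain ⟨M, hM, hHM⟩ := exists_coatom_ge hco H hHtop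
    have hd := Subgroup.card_dvd_of_le hHM
    rw [h] at hd
    have hM14 : Nat.card M = 14 := by
      rcases hco M hM with h' | h' | h' <;> rw [h'] at hd ⊢ <;> omega
    exact ⟨M, Or.inr (Or.inr hM14), le_normalizer_of_index_two H M hHM (by rw [hM14, h])⟩
  · exact ⟨H, Or.inr (Or.inl h), le_normalizer⟩
  · exact ⟨normalizer (H : Set G), Or.inl (card_normalizer_13 hco hG H h), le_rfl⟩
  · exact ⟨H, Or.inr (Or.inr h), le_normalizer⟩
  · obtain ⟨X, hX, hXN⟩ := exists_of_card_26 hco hG H h
    exact ⟨X, Or.inl hX, hXN⟩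
  · obtain ⟨M, hM, hHM⟩ := exists_coatom_ge hco H hHtop
    have hd := Subgroup.card_dvd_of_le hHM
    rw [h] at hd
    have hM78 : Nat.card M = 78 := by
      rcases hco M hM with h' | h' | h' <;> rw [h'] at hd ⊢ <;> omega
    exact ⟨M, Or.inl hM78, le_normalizer_of_index_two H M hHM (by rw [hM78, h])⟩
  · exact ⟨H, Or.inl h, le_normalizer⟩

end final

end Cfsg.Agent.Lib.Helper5.L13
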