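import Cfsg.Agent.Lib.Helper5.L13.Main

/-!
# A simple group of order 1092 whose maximal subgroups have orders 78, 12, 14:
the centralizer of an involution has order 12

(author: helper5)
-/

set_option autoImplicit false
set_option linter.unusedSectionVars false
set_option linter.unusedVariables false

namespace Cfsg.Agent.Lib.Helper5.L13

open Subgroup

section invol

variable {G : Type*} [Group G] [Finite G] [IsSimpleGroup G]

/-- four distinct elements exhaust a subgroup of order 4 -/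
theorem eq_of_card_four (V : Subgroup G) (hV : Nat.card V = 4) (a b c d : G)
    (ha : a ∈ V) (hb : b ∈ V) (hc : c ∈ V) (hd : d ∈ V)
    (hab : a ≠ b) (hac : a ≠ c) (had : a ≠ d) (hbc : b ≠ c) (hbd : b ≠ d) (hcd : c ≠ d)
    (v : G) (hv : v ∈ V) : v = a ∨ v = b ∨ v = c ∨ v = d := by
  classical
  by_contra hcon
  push_neg at hcon
  obtain ⟨hva, hvb, hvc, hvd⟩ := hcon
  have hsub : (({v, a, b, c, d} : Finset G) : Set G) ⊆ (V : Set G) := by
    intro w hw
    simp only [Finset.coe_insert, Finset.coe_singleton, Set.mem_insert_iff,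
      Set.mem_singleton_iff] at hw
    rcases hw with rfl | rfl | rfl | rfl | rfl
    exacts [hv, ha, hb, hc, hd]
  have hcard : ({v, a, b, c, d} : Finset G).card = 5 := by
    rw [Finset.card_insert_of_notMem, Finset.card_insert_of_notMem,
      Finset.card_insert_of_notMem, Finset.card_insert_of_notMem, Finset.card_singleton]
    · simpa using hcd
    · simp [hbc, hbd]
    · simp [hab, hac, had]
    · simp [hva, hvb, hvc, hvd]
  have h1 := Set.ncard_le_ncard hsub (Set.toFinite _)
  have h2 : Nat.card V = (V : Set G).ncard := Nat.card_coe_set_eq _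
  rw [Set.ncard_coe_finset, hcard, ← h2, hV] at h1
  omega

theorem exists_order_three_commuting (hco : CoatomOrders G) (hG : Nat.card G = 1092) (t : G)
    (ht : orderOf t = 2) : ∃ x, orderOf x = 3 ∧ t * x = x * t := by
  haveI : Fact (Nat.Prime 2) := ⟨by norm_num⟩
  haveI : Fact (Nat.Prime 3) := ⟨by norm_num⟩
  obtain ⟨t₀, x₀, h2, h3, hc⟩ := exists_commuting_pair hco hG
  have key : ∀ s : G, orderOf s = 2 → ∃ V : Sylow 2 G, s ∈ (V : Subgroup G) := by
    intro s hs
    have : IsPGroup 2 (zpowers s) :=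
      IsPGroup.of_card (n := 1) (by rw [Nat.card_zpowers, hs]; norm_num)
    obtain ⟨V, hV⟩ := this.exists_le_sylow
    exact ⟨V, hV (mem_zpowers s)⟩
  obtain ⟨V, htV⟩ := key t ht
  obtain ⟨V₀, htV₀⟩ := key t₀ h2
  have hVc : Nat.card (V : Subgroup G) = 4 := by
    rw [Ord360.sylow_card_eq V 2 273 (by rw [hG]; norm_num) (by norm_num)]; norm_num
  have hN := card_normalizer_4 hco hG _ hVc
  obtain ⟨y, hy⟩ := exists_prime_orderOf_dvd_card' 3
    (by rw [hN]; norm_num : 3 ∣ Nat.card (normalizer ((V : Subgroup G) : Set G)))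
  by_cases hcomm : t * (y : G) = (y : G) * t
  · exact ⟨y, by rw [Subgroup.orderOf_coe, hy], hcomm⟩
  obtain ⟨z, hzdef⟩ : ∃ z : G, z = (y : G) := ⟨_, rfl⟩
  have hz3 : z ^ 3 = 1 := by
    have : y ^ 3 = 1 := by rw [← hy]; exact pow_orderOf_eq_one y
    rw [hzdef]
    simpa using congrArg Subtype.val this
  have hzN : z ∈ normalizer ((V : Subgroup G) : Set G) := hzdef ▸ y.2
  rw [← hzdef] at hcomm
  have hconj : ∀ v ∈ (V : Subgroup G), z * v * z⁻¹ ∈ (V : Subgroup G) :=
    fun v hv => (mem_normalizer_iff.1 hzN v).1 hv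
  have hinj : ∀ a b : G, z * a * z⁻¹ = z * b * z⁻¹ → a = b := by
    intro a b hab
    exact mul_left_cancel (mul_right_cancel hab)
  have hz3' : z * z * z = 1 := by rw [← hz3, pow_succ, pow_succ, pow_one]
  have hcube : z * (z * (z * t * z⁻¹) * z⁻¹) * z⁻¹ = t := by
    have : z * (z * (z * t * z⁻¹) * z⁻¹) * z⁻¹ = (z * z * z) * t * (z * z * z)⁻¹ := by
      simp [mul_assoc]
    rw [this, hz3']; simp
  have ht1 : t ≠ 1 := by
    rintro rfl
    simp at ht
  have h01 : z * t * z⁻¹ ≠ t := by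
    intro h
    apply hcomm
    have : z * t = t * z := by
      calc z * t = z * t * z⁻¹ * z := by group
        _ = t * z := by rw [h]
    exact this.symm
  have h12 : z * (z * t * z⁻¹) * z⁻¹ ≠ z * t * z⁻¹ := fun h => h01 (hinj _ _ h)
  have h02 : z * (z * t * z⁻¹) * z⁻¹ ≠ t := by
    intro h
    apply h01
    have h' := hcube
    rw [h] at h'
    exact h'
  have hone : ∀ a : G, a ≠ 1 → z * a * z⁻¹ ≠ 1 := by
    intro a ha h
    apply ha
    apply hinj
    rw [h]; simp
  have h₁V := hconj t htV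
  have h₂V := hconj _ h₁V
  have hVset := eq_of_card_four (V : Subgroup G) hVc 1 t (z * t * z⁻¹)
    (z * (z * t * z⁻¹) * z⁻¹) (one_mem _) htV h₁V h₂V ht1.symm (hone t ht1).symm
    (hone _ (hone t ht1)).symm h01.symm h02.symm h12.symm
  obtain ⟨g, hg⟩ := MulAction.exists_smul_eq G V₀ V
  have hs : g * t₀ * g⁻¹ ∈ (V : Subgroup G) := by
    have := Subgroup.smul_mem_pointwise_smul t₀ (MulAut.conj g) (V₀ : Subgroup G) htV₀
    rw [MulAut.smul_def, MulAut.conj_apply] at this
    rwa [← hg, Sylow.coe_subgroup_smul]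
  have ht₀1 : t₀ ≠ 1 := by
    rintro rfl
    simp at h2
  rcases hVset _ hs with h | h | h | h
  · exfalso
    apply ht₀1
    have : g⁻¹ * (g * t₀ * g⁻¹) * g = t₀ := by group
    rw [← this, h]; simp
  · exact conj_pair h3 hc g t h.symm
  · apply conj_pair h3 hc (z⁻¹ * g) t
    have : t = z⁻¹ * (g * t₀ * g⁻¹) * z := by rw [h]; group
    rw [this]; group
  · apply conj_pair h3 hc (z⁻¹ * z⁻¹ * g) t
    have h' : z⁻¹ * z⁻¹ * g * t₀ * (z⁻¹ * z⁻¹ * g)⁻¹ =
        z⁻¹ * (z⁻¹ * (g * t₀ * g⁻¹) * z) * z := by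
      simp [mul_assoc]
    rw [h', h]
    simp [mul_assoc]

theorem card_centralizer_two (hco : CoatomOrders G) (hG : Nat.card G = 1092) (H : Subgroup G)
    (hH : Nat.card H = 2) : Nat.card (centralizer (H : Set G)) = 12 := by
  haveI : Fact (Nat.Prime 2) := ⟨by norm_num⟩
  obtain ⟨t', ht'⟩ := exists_prime_orderOf_dvd_card' 2 (by rw [hH] : 2 ∣ Nat.card H)
  obtain ⟨t, htdef⟩ : ∃ t : G, t = (t' : G) := ⟨_, rfl⟩
  have htH : t ∈ H := htdef ▸ t'.2
  have ht : orderOf t = 2 := by rw [htdef, Subgroup.orderOf_coe, ht']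
  clear htdef ht' t'
  obtain ⟨x, hx3, hxc⟩ := exists_order_three_commuting hco hG t ht
  have hHz : zpowers t = H := by
    apply Subgroup.eq_of_le_of_card_ge (zpowers_le.2 htH)
    rw [Nat.card_zpowers, ht, hH]
  have hxC : x ∈ centralizer (H : Set G) := by
    rw [mem_centralizer_iff]
    intro h hh
    rw [← hHz] at hh
    obtain ⟨k, rfl⟩ := mem_zpowers_iff.1 hh
    have hcm : Commute t x := hxc
    exact (hcm.zpow_left k).eq
  have h3 : 3 ∣ Nat.card (centralizer (H : Set G)) := hx3 ▸ Subgroup.orderOf_dvd_natCard _ hxC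
  rcases card_centralizer_two_dvd hco hG H hH with h | h <;> rw [h] at h3 ⊢ <;> omega

end invol

end Cfsg.Agent.Lib.Helper5.L13
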