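import Cfsg.Agent.Lib.Helper5.L13.Basic

/-!
# A simple group of order 1092 whose maximal subgroups have orders 78, 12, 14:
every subgroup that is not normal has a maximal normalizer

(author: helper5)
-/

set_option autoImplicit false
set_option linter.unusedSectionVars false
set_option linter.unusedVariables false

namespace Cfsg.Agent.Lib.Helper5.L13

open Subgroup

/-- the hypothesis on the orders of the maximal subgroups -/
def CoatomOrders (G : Type*) [Group G] : Prop :=
  ∀ M : Subgroup G, IsCoatom M → Nat.card M = 78 ∨ Nat.card M = 12 ∨ Nat.card M = 14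

section tools

variable {G : Type*} [Group G] [Finite G]

theorem le_normalizer_of_forall (B H : Subgroup G) (h : ∀ b ∈ B, ∀ x ∈ H, b * x * b⁻¹ ∈ H) :
    B ≤ normalizer (H : Set G) := by
  intro b hb
  rw [mem_normalizer_iff]
  intro x
  refine ⟨fun hx => h b hb x hx, fun hx => ?_⟩
  have := h b⁻¹ (B.inv_mem hb) _ hx
  simpa [mul_assoc] using this

theorem le_normalizer_of_index_two (H M : Subgroup G) (hHM : H ≤ M)
    (hc : Nat.card M = 2 * Nat.card H) : M ≤ normalizer (H : Set G) := by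
  rw [← normal_subgroupOf_iff_le_normalizer hHM]
  apply normal_of_index_eq_two
  have h1 := (H.subgroupOf M).card_mul_index
  rw [Nat.card_congr (subgroupOfEquivOfLe hHM).toEquiv, hc] at h1
  have hpos : 0 < Nat.card H := Nat.card_pos
  exact Nat.eq_of_mul_eq_mul_left hpos (h1.trans (mul_comm 2 _))

theorem comm_of_card_four (K : Subgroup G) (hK : Nat.card K = 4) :
    ∀ a ∈ K, ∀ b ∈ K, a * b = b * a := by
  have : Fact (Nat.Prime 2) := ⟨by norm_num⟩
  have h1 : Nat.card K = 2 ^ 2 := by rw [hK]; norm_num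
  have h2 := (IsPGroup.isMulCommutative_of_card_eq_prime_sq h1).is_comm.comm
  intro a ha b hb
  exact congrArg Subtype.val (h2 ⟨a, ha⟩ ⟨b, hb⟩)

theorem comm_of_card_prime {p : ℕ} [Fact p.Prime] (K : Subgroup G) (hK : Nat.card K = p) :
    ∀ a ∈ K, ∀ b ∈ K, a * b = b * a := by
  haveI := isCyclic_of_prime_card hK
  letI := IsCyclic.commGroup (α := K)
  intro a ha b hb
  exact congrArg Subtype.val (mul_comm (⟨a, ha⟩ : K) ⟨b, hb⟩)

theorem card_mulAut_three (H : Subgroup G) (hH : Nat.card H = 3) : Nat.card (MulAut H) = 2 := by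
  haveI : Fact (Nat.Prime 3) := ⟨by norm_num⟩
  haveI := isCyclic_of_prime_card hH
  rw [IsCyclic.card_mulAut, hH, Nat.totient_prime (by norm_num)]

theorem le_centralizer_zpowers (P : Subgroup G) (u : G) (hu : u ∈ centralizer (P : Set G)) :
    P ≤ centralizer ((zpowers u : Subgroup G) : Set G) := by
  intro a ha
  rw [mem_centralizer_iff]
  intro h hh
  obtain ⟨k, rfl⟩ := mem_zpowers_iff.1 hh
  have : Commute u a := ((mem_centralizer_iff.1 hu) a ha).symm
  exact (this.zpow_left k).eq

theorem conj_pair {t₀ x₀ : G} (h3 : orderOf x₀ = 3) (hc : t₀ * x₀ = x₀ * t₀) (a t : G)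
    (ht : t = a * t₀ * a⁻¹) : ∃ x, orderOf x = 3 ∧ t * x = x * t := by
  refine ⟨a * x₀ * a⁻¹, ?_, ?_⟩
  · have := MulEquiv.orderOf_eq (MulAut.conj a) x₀
    rw [MulAut.conj_apply] at this
    rw [this, h3]
  · rw [ht]
    calc a * t₀ * a⁻¹ * (a * x₀ * a⁻¹) = a * (t₀ * x₀) * a⁻¹ := by group
      _ = a * (x₀ * t₀) * a⁻¹ := by rw [hc]
      _ = a * x₀ * a⁻¹ * (a * t₀ * a⁻¹) := by group

end tools

section main

variable {G : Type*} [Group G] [Finite G] [IsSimpleGroup G]

theorem normalizer_ne_top (hG : Nat.card G = 1092) (X : Subgroup G) (h1 : Nat.card X ≠ 1)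
    (h2 : Nat.card X ≠ 1092) : normalizer (X : Set G) ≠ ⊤ := by
  intro h
  rcases (normalizer_eq_top_iff.1 h).eq_bot_or_eq_top with h' | h'
  · rw [h', Subgroup.card_bot] at h1; exact h1 rfl
  · rw [h', Subgroup.card_top, hG] at h2; exact h2 rfl

theorem normalizer_data (hco : CoatomOrders G) (hG : Nat.card G = 1092) {p : ℕ} [Fact p.Prime]
    (k m : ℕ) (hpm : 1092 = p ^ k * m) (hm : ¬ p ∣ m)
    (H : Subgroup G) (hH : Nat.card H = p ^ k) (h1 : p ^ k ≠ 1) (h2 : p ^ k ≠ 1092) :
    (Nat.card (normalizer (H : Set G)) ∣ 78 ∨ Nat.card (normalizer (H : Set G)) ∣ 12 ∨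
      Nat.card (normalizer (H : Set G)) ∣ 14) ∧
    p ^ k ∣ Nat.card (normalizer (H : Set G)) ∧
    Nat.card (normalizer (H : Set G)) * (normalizer (H : Set G)).index = 1092 ∧
    (normalizer (H : Set G)).index % p = 1 % p := by
  obtain ⟨P, rfl⟩ := exists_sylow_eq k m (hG.trans hpm) hm H hH
  refine ⟨card_dvd_of_ne_top hco _ (normalizer_ne_top hG _ (by rw [hH]; exact h1)
    (by rw [hH]; exact h2)), ?_, ?_, sylow_index_mod P⟩
  · rw [← hH]; exact Subgroup.card_dvd_of_le le_normalizer
  · rw [← hG]; exact Subgroup.card_mul_index _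

theorem centralizer_data (hco : CoatomOrders G) (hG : Nat.card G = 1092) {p : ℕ} [Fact p.Prime]
    (k m : ℕ) (hpm : 1092 = p ^ k * m) (hm : ¬ p ∣ m)
    (H : Subgroup G) (hH : Nat.card H = p ^ k) (h1 : p ^ k ≠ 1) (h2 : p ^ k ≠ 1092)
    (hab : ∀ a ∈ H, ∀ b ∈ H, a * b = b * a) :
    p ^ k ∣ Nat.card (centralizer (H : Set G)) ∧
    Nat.card (centralizer (H : Set G)) ∣ Nat.card (normalizer (H : Set G)) ∧
    Nat.card (centralizer (H : Set G)) ≠ Nat.card (normalizer (H : Set G)) := by
  have hHC : H ≤ centralizer (H : Set G) := by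
    intro a ha
    rw [mem_centralizer_iff]
    intro b hb
    exact hab b hb a ha
  refine ⟨hH ▸ Subgroup.card_dvd_of_le hHC,
    Subgroup.card_dvd_of_le (centralizer_le_normalizer _), ?_⟩
  intro hcard
  obtain ⟨P, rfl⟩ := exists_sylow_eq k m (hG.trans hpm) hm H hH
  apply not_normalizer_le_centralizer P (by rw [hH]; exact h1) (by rw [hH, hG]; exact h2)
  exact (Subgroup.eq_of_le_of_card_ge (centralizer_le_normalizer _) hcard.ge).ge

theorem card_normalizer_13 (hco : CoatomOrders G) (hG : Nat.card G = 1092) (H : Subgroup G)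
    (hH : Nat.card H = 13) : Nat.card (normalizer (H : Set G)) = 78 := by
  haveI : Fact (Nat.Prime 13) := ⟨by norm_num⟩
  obtain ⟨h1, h2, h3, h4⟩ := normalizer_data hco hG (p := 13) 1 84 (by norm_num) (by norm_num) H
    (by rw [hH]; norm_num) (by norm_num) (by norm_num)
  norm_num at h2
  rcases mem_of_dvd h1 with h | h | h | h | h | h | h | h | h | h | h | h <;>
    rw [h] at h2 h3 ⊢ <;> omega

theorem card_normalizer_4 (hco : CoatomOrders G) (hG : Nat.card G = 1092) (H : Subgroup G)
    (hH : Nat.card H = 4) : Nat.card (normalizer (H : Set G)) = 12 := by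
  haveI : Fact (Nat.Prime 2) := ⟨by norm_num⟩
  have hH' : Nat.card H = 2 ^ 2 := by rw [hH]; norm_num
  obtain ⟨h1, h2, h3, h4⟩ := normalizer_data hco hG (p := 2) 2 273 (by norm_num) (by norm_num) H
    hH' (by norm_num) (by norm_num)
  obtain ⟨c1, c2, c3⟩ := centralizer_data hco hG (p := 2) 2 273 (by norm_num) (by norm_num) H
    hH' (by norm_num) (by norm_num) (comm_of_card_four H hH)
  norm_num at h2 c1
  have hcpos : 0 < Nat.card (centralizer (H : Set G)) := Nat.card_pos
  rcases mem_of_dvd h1 with h | h | h | h | h | h | h | h | h | h | h | h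
  all_goals try (rw [h] at h2 h3 ⊢ <;> omega)
  rw [h] at c2 c3
  have := Nat.le_of_dvd (by norm_num) c2
  omega

theorem card_normalizer_3 (hco : CoatomOrders G) (hG : Nat.card G = 1092) (H : Subgroup G)
    (hH : Nat.card H = 3) : Nat.card (normalizer (H : Set G)) = 12 := by
  haveI : Fact (Nat.Prime 3) := ⟨by norm_num⟩
  haveI : Fact (Nat.Prime 13) := ⟨by norm_num⟩
  have hH' : Nat.card H = 3 ^ 1 := by rw [hH]; norm_num
  obtain ⟨h1, h2, h3, h4⟩ := normalizer_data hco hG (p := 3) 1 364 (by norm_num) (by norm_num) H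
    hH' (by norm_num) (by norm_num)
  obtain ⟨c1, c2, c3⟩ := centralizer_data hco hG (p := 3) 1 364 (by norm_num) (by norm_num) H
    hH' (by norm_num) (by norm_num) (comm_of_card_prime H hH)
  norm_num at h2 c1
  have hcpos : 0 < Nat.card (centralizer (H : Set G)) := Nat.card_pos
  rcases mem_of_dvd h1 with h | h | h | h | h | h | h | h | h | h | h | h
  all_goals try (rw [h] at h2 h3 ⊢ <;> omega)
  · rw [h] at c2 c3
    have := Nat.le_of_dvd (by norm_num) c2
    omega
  · exfalso
    have h13 : 13 ∣ Nat.card (normalizer (H : Set G)) := by rw [h]; norm_num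
    obtain ⟨g, hg⟩ := exists_prime_orderOf_dvd_card' 13 h13
    have hg13 : (g : G) ^ 13 = 1 := by
      have : g ^ 13 = 1 := by rw [← hg]; exact pow_orderOf_eq_one g
      simpa using congrArg Subtype.val this
    have hgc : (g : G) ∈ centralizer (H : Set G) := by
      apply mem_centralizer_of_coprime H g g.2 13 hg13
      rw [card_mulAut_three H hH]; norm_num
    have h13' : 13 ∣ Nat.card (centralizer (H : Set G)) := by
      have := Subgroup.orderOf_dvd_natCard _ hgc
      rwa [Subgroup.orderOf_coe, hg] at this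
    rw [h] at c2 c3
    have := Nat.le_of_dvd (by norm_num) c2
    omega

theorem card_centralizer_two_dvd (hco : CoatomOrders G) (hG : Nat.card G = 1092) (H : Subgroup G)
    (hH : Nat.card H = 2) :
    Nat.card (centralizer (H : Set G)) = 4 ∨ Nat.card (centralizer (H : Set G)) = 12 := by
  haveI : Fact (Nat.Prime 2) := ⟨by norm_num⟩
  obtain ⟨V, hV⟩ := (IsPGroup.of_card (n := 1)
    (by rw [hH]; norm_num : Nat.card H = 2 ^ 1)).exists_le_sylow
  have hVc : Nat.card (V : Subgroup G) = 4 := by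
    rw [Ord360.sylow_card_eq V 2 273 (by rw [hG]; norm_num) (by norm_num)]; norm_num
  have hab := comm_of_card_four (V : Subgroup G) hVc
  have hVC : (V : Subgroup G) ≤ centralizer (H : Set G) := by
    intro v hv
    rw [mem_centralizer_iff]
    intro h hh
    exact hab h (hV hh) v hv
  have hCtop : centralizer (H : Set G) ≠ ⊤ := by
    intro h
    apply normalizer_ne_top hG H (by rw [hH]; norm_num) (by rw [hH]; norm_num)
    exact top_le_iff.1 (h ▸ centralizer_le_normalizer _)
  have h1 := mem_of_dvd (card_dvd_of_ne_top hco _ hCtop)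
  have h2 : 4 ∣ Nat.card (centralizer (H : Set G)) := hVc ▸ Subgroup.card_dvd_of_le hVC
  rcases h1 with h | h | h | h | h | h | h | h | h | h | h | h <;> rw [h] at h2 ⊢ <;> omega

theorem exists_commuting_pair (hco : CoatomOrders G) (hG : Nat.card G = 1092) :
    ∃ t x : G, orderOf t = 2 ∧ orderOf x = 3 ∧ t * x = x * t := by
  haveI : Fact (Nat.Prime 3) := ⟨by norm_num⟩
  haveI : Fact (Nat.Prime 2) := ⟨by norm_num⟩
  obtain ⟨Q⟩ : Nonempty (Sylow 3 G) := inferInstance
  have hQ : Nat.card (Q : Subgroup G) = 3 := by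
    rw [Ord360.sylow_card_eq Q 1 364 (by rw [hG]; norm_num) (by norm_num)]; norm_num
  have hN := card_normalizer_3 hco hG _ hQ
  have hd := card_normalizer_dvd (Q : Subgroup G)
  rw [hN, card_mulAut_three _ hQ] at hd
  have h2 : 2 ∣ Nat.card (centralizer ((Q : Subgroup G) : Set G)) := by omega
  obtain ⟨t, ht⟩ := exists_prime_orderOf_dvd_card' 2 h2
  obtain ⟨x, hx⟩ := exists_prime_orderOf_dvd_card' 3
    (by rw [hQ] : 3 ∣ Nat.card (Q : Subgroup G))
  refine ⟨t, x, by rw [Subgroup.orderOf_coe, ht], by rw [Subgroup.orderOf_coe, hx], ?_⟩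
  exact ((mem_centralizer_iff.1 t.2) x x.2).symm

end main

end Cfsg.Agent.Lib.Helper5.L13
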