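import Cfsg.Agent.Lib.Helper5.L13.Main

/-!
# Groups in which every subgroup that is not normal has a maximal normalizer: reductions

(author: helper5)  The property passes up along a surjection `π : K → G` as soon as
`N_K(H) = π⁻¹(N_G(π(H)))` for all `H ≤ K`; this holds for isomorphisms, for the projection of a
direct product with an abelian group of coprime order, and for the quotient by a central subgroup
of order 2 generated by the only involution.
-/

set_option autoImplicit false
set_option linter.unusedSectionVars false
set_option linter.unusedVariables false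

namespace Cfsg.Agent.Lib.Helper5.L13

open Subgroup

/-- every subgroup that is not normal has a maximal normalizer -/
def MaxNorm (G : Type*) [Group G] : Prop :=
  ∀ H : Subgroup G, ¬ H.Normal → IsCoatom (normalizer (H : Set G))

theorem maxNorm_of_surjective {K G : Type*} [Group K] [Group G] (π : K →* G)
    (hπ : Function.Surjective π)
    (hN : ∀ H : Subgroup K, normalizer (H : Set K) =
      (normalizer ((H.map π : Subgroup G) : Set G)).comap π)
    (hG : MaxNorm G) : MaxNorm K := by
  intro H hH
  rw [hN H]
  apply isCoatom_comap_of_surjective hπ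
  apply hG
  intro hn
  apply hH
  rw [← normalizer_eq_top_iff, hN H, normalizer_eq_top_iff.2 hn, comap_top]

theorem normalizer_eq_comap_of_injective {K G : Type*} [Group K] [Group G] (π : K →* G)
    (hπ : Function.Injective π) (hπs : Function.Surjective π) (H : Subgroup K) :
    normalizer (H : Set K) = (normalizer ((H.map π : Subgroup G) : Set G)).comap π := by
  rw [comap_normalizer_eq_of_surjective _ hπs, comap_map_eq_self_of_injective hπ]

theorem fst_one_mem {K S : Type*} [Group K] [Group S] [Finite K] [Finite S]
    (hKS : (Nat.card K).Coprime (Nat.card S)) (H : Subgroup (K × S)) (k : K) (s : S)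
    (h : (k, s) ∈ H) : (k, (1 : S)) ∈ H := by
  obtain ⟨m, hm1, hm0⟩ := Nat.chineseRemainder hKS 1 0
  have hm1' : m % Nat.card K = 1 % Nat.card K := hm1
  have hm0' : m % Nat.card S = 0 % Nat.card S := hm0
  have hk : k ^ m = k := by
    rw [← pow_mod_natCard, hm1', pow_mod_natCard, pow_one]
  have hs : s ^ m = 1 := by
    rw [← pow_mod_natCard, hm0', pow_mod_natCard, pow_zero]
  have := H.pow_mem h m
  rwa [Prod.pow_mk, hk, hs] at this

theorem normalizer_prod_eq {K S : Type*} [Group K] [CommGroup S] [Finite K] [Finite S]
    (hKS : (Nat.card K).Coprime (Nat.card S)) (H : Subgroup (K × S)) :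
    normalizer (H : Set (K × S)) =
      (normalizer ((H.map (MonoidHom.fst K S) : Subgroup K) : Set K)).comap
        (MonoidHom.fst K S) := by
  apply le_antisymm
  · exact map_le_iff_le_comap.1 (le_normalizer_map _)
  · apply le_normalizer_of_forall
    rintro ⟨g, u⟩ hg ⟨k, s⟩ hks
    rw [mem_comap, MonoidHom.coe_fst] at hg
    have hk1 : (k, (1 : S)) ∈ H := fst_one_mem hKS H k s hks
    have h1s : ((1 : K), s) ∈ H := by
      have := H.mul_mem (H.inv_mem hk1) hks
      simpa using this
    have hkm : k ∈ H.map (MonoidHom.fst K S) := ⟨(k, s), hks, rfl⟩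
    have hgk : g * k * g⁻¹ ∈ H.map (MonoidHom.fst K S) := (mem_normalizer_iff.1 hg k).1 hkm
    obtain ⟨⟨k', s'⟩, hk's', hk'⟩ := hgk
    simp only [MonoidHom.coe_fst] at hk'
    subst hk'
    have h2 : (g * k * g⁻¹, (1 : S)) ∈ H := fst_one_mem hKS H _ s' hk's'
    have := H.mul_mem h2 h1s
    simpa using this

theorem normalizer_eq_comap_of_unique_involution {K G : Type*} [Group K] [Group G] [Finite K]
    (π : K →* G) (z : K) (hz2 : orderOf z = 2)
    (hker : ∀ k : K, π k = 1 → k = 1 ∨ k = z) (hinv : ∀ k : K, orderOf k = 2 → k = z)
    (H : Subgroup K) :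
    normalizer (H : Set K) = (normalizer ((H.map π : Subgroup G) : Set G)).comap π := by
  apply le_antisymm
  · exact map_le_iff_le_comap.1 (le_normalizer_map _)
  · apply le_normalizer_of_forall
    intro g hg h hh
    rw [mem_comap] at hg
    have h1 : π (g * h * g⁻¹) ∈ H.map π := by
      rw [map_mul, map_mul, map_inv]
      exact (mem_normalizer_iff.1 hg (π h)).1 ⟨h, hh, rfl⟩
    obtain ⟨h', hh', he⟩ := h1
    have hk : π (g * h * g⁻¹ * h'⁻¹) = 1 := by
      rw [map_mul (f := π) (g * h * g⁻¹), map_inv, he, mul_inv_cancel]
    rcases hker _ hk with h1 | h1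
    · have : g * h * g⁻¹ = h' := by rwa [mul_inv_eq_one] at h1
      rw [this]; exact hh'
    · have e2 : g * h * g⁻¹ = z * h' := by rw [← h1]; group
      by_cases hzH : z ∈ H
      · rw [e2]; exact H.mul_mem hzH hh'
      · exfalso
        have hzc : ∀ k : K, k * z = z * k := by
          intro k
          have h2 : orderOf (k * z * k⁻¹) = 2 := by
            have := MulEquiv.orderOf_eq (MulAut.conj k) z
            rw [MulAut.conj_apply] at this
            rw [this, hz2]
          have h3 := hinv _ h2
          calc k * z = k * z * k⁻¹ * k := by group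
            _ = z * k := by rw [h3]
        have hodd : ¬ 2 ∣ Nat.card H := by
          intro h2
          haveI : Fact (Nat.Prime 2) := ⟨Nat.prime_two⟩
          obtain ⟨x, hx⟩ := exists_prime_orderOf_dvd_card' 2 h2
          apply hzH
          have := hinv (x : K) (by rw [Subgroup.orderOf_coe, hx])
          rw [← this]; exact x.2
        have hmodd : ¬ 2 ∣ orderOf h :=
          fun h2 => hodd (h2.trans (Subgroup.orderOf_dvd_natCard H hh))
        have e1 : (g * h * g⁻¹) ^ orderOf h = 1 := by
          rw [conj_pow, pow_orderOf_eq_one]; simp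
        have hcm : Commute z h' := (hzc h').symm
        rw [e2, hcm.mul_pow] at e1
        have hzm : z ^ orderOf h = z := by
          have : orderOf h % 2 = 1 := by omega
          rw [← pow_mod_orderOf, hz2, this, pow_one]
        rw [hzm] at e1
        apply hzH
        have : z = (h' ^ orderOf h)⁻¹ := eq_inv_of_mul_eq_one_left e1
        rw [this]
        exact H.inv_mem (H.pow_mem hh' _)

end Cfsg.Agent.Lib.Helper5.L13
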