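import Cfsg.Agent.S5892
import Cfsg.Agent.Lib.Helper5.L13.Final
import Cfsg.Agent.Lib.Helper5.L13.Reduce

/-!
# `PSL(2, 13)` and `SL(2, 13)`: every subgroup that is not normal has a maximal normalizer

(author: helper5)
-/

set_option autoImplicit false
set_option linter.unusedSectionVars false
set_option linter.unusedVariables false

namespace Cfsg.Agent.Lib.Helper5.L13

open Subgroup

local notation "PSL13" => Matrix.ProjectiveSpecialLinearGroup (Fin 2) (ZMod 13)
local notation "SL13" => Matrix.SpecialLinearGroup (Fin 2) (ZMod 13)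

theorem prime_thirteen : Nat.Prime 13 := by norm_num

theorem odd_card_zmod13 : Odd (Fintype.card (ZMod 13)) := by
  rw [ZMod.card]; exact ⟨6, by norm_num⟩

theorem card_psl13 : Nat.card PSL13 = 1092 := by
  haveI : Fact (Nat.Prime 13) := ⟨prime_thirteen⟩
  have h := Cfsg.Agent.H9.QDih.card_PSL2_odd (F := ZMod 13) odd_card_zmod13
  rw [ZMod.card] at h
  have h' : 2 * Nat.card PSL13 = 13 * (13 ^ 2 - 1) := h
  norm_num at h'
  omega

theorem simple_psl13 : IsSimpleGroup PSL13 := by
  haveI : Fact (Nat.Prime 13) := ⟨prime_thirteen⟩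
  exact Cfsg.Agent.H9.PSL2MinSimple.isSimple (F := ZMod 13) (by rw [ZMod.card]; norm_num)

theorem finite_psl13 : Finite PSL13 :=
  Nat.finite_of_card_ne_zero (by rw [card_psl13]; norm_num)

theorem card_alt_four : Nat.card (alternatingGroup (Fin 4)) = 12 := by
  rw [nat_card_alternatingGroup, Nat.card_eq_fintype_card, Fintype.card_fin]
  norm_num [Nat.factorial]

theorem coatomOrders_psl13 : CoatomOrders PSL13 := by
  haveI : Fact (Nat.Prime 13) := ⟨prime_thirteen⟩
  intro M hM
  have h := Cfsg.Agent.S5892.result (F := ZMod 13) 13 odd_card_zmod13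
    (by rw [ZMod.card]; norm_num) M hM
  simp only [ZMod.card] at h
  rcases h with h | ⟨-, k, hk, ⟨e⟩⟩ | ⟨-, -, k, hk, ⟨e⟩⟩ | ⟨F₀, _, _, hF₀, -⟩ |
    ⟨F₀, _, _, r, hr, hodd, hF₀, -⟩ | ⟨h10, -⟩ | ⟨-, -, -, ⟨e⟩⟩ | ⟨-, h8, -⟩
  · left; omega
  · right; left
    have hk6 : k = 6 := by omega
    subst hk6
    rw [Nat.card_congr e.toEquiv, DihedralGroup.nat_card]
  · right; right
    have hk7 : k = 7 := by omega
    subst hk7
    rw [Nat.card_congr e.toEquiv, DihedralGroup.nat_card]
  · exfalso
    rcases Nat.lt_or_ge (Fintype.card F₀) 4 with h4 | h4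
    · interval_cases (Fintype.card F₀) <;> omega
    · have := Nat.mul_le_mul h4 h4
      rw [sq] at hF₀
      omega
  · exfalso
    have hr3 : 3 ≤ r := by
      have := hr.two_le
      rcases hodd with ⟨j, hj⟩
      omega
    have hdvd : Fintype.card F₀ ∣ 13 := by
      rw [hF₀]; exact dvd_pow_self _ (by omega)
    rcases (Nat.dvd_prime prime_thirteen).1 hdvd with h1 | h13
    · rw [h1, one_pow] at hF₀; omega
    · rw [h13] at hF₀
      have h3 : 13 ^ 3 ≤ 13 ^ r := Nat.pow_le_pow_right (by norm_num) hr3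
      norm_num at h3
      omega
  · exfalso; omega
  · right; left
    rw [Nat.card_congr e.toEquiv, card_alt_four]
  · exfalso; omega

/-- `PSL(2, 13)`: every subgroup that is not normal has a maximal normalizer -/
theorem maxNorm_psl13 : MaxNorm PSL13 := by
  haveI := finite_psl13
  haveI := simple_psl13
  intro H hH
  exact main coatomOrders_psl13 card_psl13 H hH

theorem maxNorm_of_iso_psl {K : Type*} [Group K] (e : K ≃* PSL13) : MaxNorm K :=
  maxNorm_of_surjective e.toMonoidHom e.surjective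
    (normalizer_eq_comap_of_injective e.toMonoidHom e.injective e.surjective) maxNorm_psl13

theorem neg_one_sq_sl13 : (-1 : SL13) ^ 2 = 1 := by decide

theorem neg_one_ne_one_sl13 : (-1 : SL13) ≠ 1 := by decide

theorem maxNorm_of_iso_sl {K : Type*} [Group K] [Finite K] (e : K ≃* SL13) : MaxNorm K := by
  haveI : Fact (Nat.Prime 13) := ⟨prime_thirteen⟩
  have h2 : orderOf (-1 : SL13) = 2 :=
    orderOf_eq_prime neg_one_sq_sl13 neg_one_ne_one_sl13
  refine maxNorm_of_surjective
    ((Cfsg.Agent.H9.AutPSL2.pr (F := ZMod 13)).comp e.toMonoidHom)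
    (Cfsg.Agent.H9.AutPSL2.pr_surjective.comp e.surjective) ?_ maxNorm_psl13
  apply normalizer_eq_comap_of_unique_involution _ (e.symm (-1))
  · rw [MulEquiv.orderOf_eq, h2]
  · intro k hk
    have hk' : Cfsg.Agent.H9.AutPSL2.pr (F := ZMod 13) (e k) = 1 := hk
    unfold Cfsg.Agent.H9.AutPSL2.pr at hk'
    rw [QuotientGroup.mk'_apply, QuotientGroup.eq_one_iff,
      Cfsg.Agent.H9.AutPSL2.mem_center_iff'] at hk'
    rcases hk' with h | h
    · left
      rw [← e.symm_apply_apply k, h, map_one]
    · right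
      rw [← e.symm_apply_apply k, h]
  · intro k hk
    have hk2 : orderOf (e k) = 2 := by rw [MulEquiv.orderOf_eq, hk]
    have hsq : (e k) ^ 2 = 1 := by
      have := pow_orderOf_eq_one (e k)
      rwa [hk2] at this
    rcases Cfsg.Agent.Lib.Helper8.SL2Odd.eq_one_or_neg_one odd_card_zmod13 (e k) hsq with h | h
    · rw [h, orderOf_one] at hk2
      omega
    · rw [← e.symm_apply_apply k, h]

end Cfsg.Agent.Lib.Helper5.L13
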